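import Groth.Prelude.Def_DeltaF
import Mathlib

/-!
# When a morphism of cohomological delta-functors to abelian groups is an isomorphism
-/

universe w v u

open CategoryTheory CategoryTheory.Limits

namespace Groth.Agent.DeltaIso24

variable {C : Type u} [Category.{v} C] [Abelian C]
  {T T' : DeltaF.CohDeltaFunctor C AddCommGrpCat.{w} ℕ} (φ : T ⟶ T')

lemma phi_map (q : ℕ) {A B : C} (f : A ⟶ B) (a : (T.F q).obj A) :
    (φ.app q).app B ((T.F q).map f a) = (T'.F q).map f ((φ.app q).app A a) :=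
  NatTrans.naturality_apply (φ.app q) f a

lemma phi_delta {S : ShortComplex C} (hS : S.ShortExact) (q : ℕ) (b : (T.F q).obj S.X₃) :
    (φ.app (q + 1)).app S.X₁ (T.δ S hS q (q + 1) rfl b) =
      T'.δ S hS q (q + 1) rfl ((φ.app q).app S.X₃ b) :=
  ConcreteCategory.congr_hom (φ.comm S hS q (q + 1) rfl) b

/-- The short exact sequence of a monomorphism. -/
noncomputable abbrev monoSeq {A M : C} (i : A ⟶ M) : ShortComplex C :=
  ShortComplex.mk i (cokernel.π i) (cokernel.condition i)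

lemma monoSeq_shortExact {A M : C} (i : A ⟶ M) [Mono i] : (monoSeq i).ShortExact where
  exact := ShortComplex.exact_of_g_is_cokernel _ (cokernelIsCokernel i)

lemma exact_elem₂ (R : DeltaF.CohDeltaFunctor C AddCommGrpCat.{w} ℕ) {S : ShortComplex C}
    (hS : S.ShortExact) (q : ℕ) (m : (R.F q).obj S.X₂) (h : (R.F q).map S.g m = 0) :
    ∃ a, (R.F q).map S.f a = m :=
  (ShortComplex.ab_exact_iff _).1 (R.exact₂ S hS q) m h

lemma exact_elem₁ (R : DeltaF.CohDeltaFunctor C AddCommGrpCat.{w} ℕ) {S : ShortComplex C}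
    (hS : S.ShortExact) (q : ℕ) (a : (R.F (q + 1)).obj S.X₁) (h : (R.F (q + 1)).map S.f a = 0) :
    ∃ b, R.δ S hS q (q + 1) rfl b = a :=
  (ShortComplex.ab_exact_iff _).1 (R.exact₁ S hS q (q + 1) rfl) a h

lemma exact_elem₃ (R : DeltaF.CohDeltaFunctor C AddCommGrpCat.{w} ℕ) {S : ShortComplex C}
    (hS : S.ShortExact) (q : ℕ) (b : (R.F q).obj S.X₃) (h : R.δ S hS q (q + 1) rfl b = 0) :
    ∃ m, (R.F q).map S.g m = b :=
  (ShortComplex.ab_exact_iff _).1 (R.exact₃ S hS q (q + 1) rfl) b h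

lemma delta_g (R : DeltaF.CohDeltaFunctor C AddCommGrpCat.{w} ℕ) {S : ShortComplex C}
    (hS : S.ShortExact) (q : ℕ) (m : (R.F q).obj S.X₂) :
    R.δ S hS q (q + 1) rfl ((R.F q).map S.g m) = 0 :=
  ConcreteCategory.congr_hom (R.comp_δ S hS q (q + 1) rfl) m

lemma map_fg (R : DeltaF.CohDeltaFunctor C AddCommGrpCat.{w} ℕ) (S : ShortComplex C)
    (q : ℕ) (a : (R.F q).obj S.X₁) : (R.F q).map S.g ((R.F q).map S.f a) = 0 := by
  rw [← ConcreteCategory.comp_apply, ← Functor.map_comp, S.zero, Functor.map_zero]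
  rfl

/-- Injectivity at degree zero from injectivity on a bigger object. -/
lemma zero_injective (hT0 : T.ZeroMono) {A M : C} (i : A ⟶ M) [Mono i]
    (hM : Function.Injective ((φ.app 0).app M)) : Function.Injective ((φ.app 0).app A) := by
  intro a b h
  have := hT0 (monoSeq i) (monoSeq_shortExact i)
  refine (AddCommGrpCat.mono_iff_injective ((T.F 0).map i)).1 this ?_
  refine hM ?_
  rw [phi_map, phi_map, h]

/-- Surjectivity from surjectivity on a bigger object and injectivity on the quotient. -/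
lemma surjective_of_mono (q : ℕ) {A M : C} (i : A ⟶ M) [Mono i]
    (hM : Function.Surjective ((φ.app q).app M))
    (hQ : Function.Injective ((φ.app q).app (cokernel i)))
    (hf : ∀ a : (T'.F q).obj A, (T'.F q).map i a = 0 → ∃ x, (φ.app q).app A x = a) :
    Function.Surjective ((φ.app q).app A) := by
  intro b
  obtain ⟨m, hm⟩ := hM ((T'.F q).map i b)
  have hg : (T.F q).map (monoSeq i).g m = 0 := by
    refine hQ ?_
    rw [map_zero]
    refine (phi_map φ q (monoSeq i).g m).trans ?_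
    rw [hm]
    exact map_fg T' (monoSeq i) q b
  obtain ⟨a, rfl⟩ := exact_elem₂ T (monoSeq_shortExact i) q m hg
  rw [phi_map] at hm
  obtain ⟨x, hx⟩ := hf (b - (φ.app q).app A a) (by rw [map_sub, hm, sub_self])
  exact ⟨a + x, by rw [map_add, hx, add_sub_cancel]⟩

lemma zero_surjective (hT'0 : T'.ZeroMono) {A M : C} (i : A ⟶ M) [Mono i]
    (hM : Function.Surjective ((φ.app 0).app M))
    (hQ : Function.Injective ((φ.app 0).app (cokernel i))) : Function.Surjective ((φ.app 0).app A) :=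
  surjective_of_mono φ 0 i hM hQ fun a ha => ⟨0, by
    have := hT'0 (monoSeq i) (monoSeq_shortExact i)
    rw [map_zero]
    exact ((AddCommGrpCat.mono_iff_injective ((T'.F 0).map i)).1 this (ha.trans (map_zero _).symm)).symm⟩

lemma lift_vanishing {A M : C} (i : A ⟶ M) [Mono i] (q : ℕ)
    (hQ : Function.Surjective ((φ.app q).app (cokernel i))) (a : (T'.F (q + 1)).obj A)
    (ha : (T'.F (q + 1)).map i a = 0) : ∃ x, (φ.app (q + 1)).app A x = a := by
  obtain ⟨b, hb⟩ := exact_elem₁ T' (monoSeq_shortExact i) q a ha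
  obtain ⟨b', rfl⟩ := hQ b
  exact ⟨T.δ _ (monoSeq_shortExact i) q (q + 1) rfl b', (phi_delta φ (monoSeq_shortExact i) q b').trans hb⟩

lemma succ_surjective {A M : C} (i : A ⟶ M) [Mono i] (q : ℕ)
    (hM : Function.Surjective ((φ.app (q + 1)).app M))
    (hQ : Function.Surjective ((φ.app q).app (cokernel i)))
    (hQ' : Function.Injective ((φ.app (q + 1)).app (cokernel i))) :
    Function.Surjective ((φ.app (q + 1)).app A) :=
  surjective_of_mono φ (q + 1) i hM hQ' (lift_vanishing φ i q hQ)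

/-- An element killed by `φ` and by a monomorphism vanishes. -/
lemma eq_zero_of_phi {A M : C} (i : A ⟶ M) [Mono i] (q : ℕ)
    (hM : Function.Surjective ((φ.app q).app M))
    (hQ : Function.Injective ((φ.app q).app (cokernel i))) (a : (T.F (q + 1)).obj A)
    (hi : (T.F (q + 1)).map i a = 0) (h : (φ.app (q + 1)).app A a = 0) : a = 0 := by
  obtain ⟨b, hb⟩ := exact_elem₁ T (monoSeq_shortExact i) q a hi
  obtain ⟨m', hm'⟩ := exact_elem₃ T' (monoSeq_shortExact i) q ((φ.app q).app _ b) (by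
    rw [← phi_delta, hb]; exact h)
  obtain ⟨m, rfl⟩ := hM m'
  have hbm : (T.F q).map (monoSeq i).g m = b := hQ ((phi_map φ q (monoSeq i).g m).trans hm')
  rw [← hb, ← hbm, delta_g]

lemma isIso_iff_bijective' (q : ℕ) (A : C) :
    IsIso ((φ.app q).app A) ↔ Function.Bijective ((φ.app q).app A) :=
  ConcreteCategory.isIso_iff_bijective _

lemma inj_of_eq_zero (q : ℕ) (A : C) (h : ∀ a, (φ.app q).app A a = 0 → a = 0) :
    Function.Injective ((φ.app q).app A) := fun a b e =>
  sub_eq_zero.1 (h (a - b) (by rw [map_sub, e, sub_self]))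

theorem isIso_iff_of_effaceable (hT0 : T.ZeroMono) (hT'0 : T'.ZeroMono)
    (hT : ∀ (q : ℕ) (A : C) (α : (T.F (q + 1)).obj A),
      ∃ (M : C) (u : A ⟶ M), Mono u ∧ (T.F (q + 1)).map u α = 0)
    (E : ObjectProperty C) (hE : ∀ A : C, ∃ (M : C) (i : A ⟶ M), Mono i ∧ E M) :
    ((∀ (q : ℕ) (A : C), IsIso ((φ.app q).app A)) ↔
      ((∀ M : C, E M → IsIso ((φ.app 0).app M)) ∧
        ∀ (q : ℕ) (M : C), E M → Epi ((φ.app (q + 1)).app M))) ∧
    ((∀ (q : ℕ) (A : C), IsIso ((φ.app q).app A)) ↔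
      ((∀ A : C, IsIso ((φ.app 0).app A)) ∧
        ∀ (q : ℕ) (A : C) (α : (T'.F (q + 1)).obj A),
          ∃ (M : C) (u : A ⟶ M), Mono u ∧ (T'.F (q + 1)).map u α = 0)) := by
  have hinj : ∀ (q : ℕ), (∀ A, Function.Bijective ((φ.app q).app A)) →
      ∀ A, Function.Injective ((φ.app (q + 1)).app A) := fun q hq A =>
    inj_of_eq_zero φ (q + 1) A fun a ha => by
      obtain ⟨M, u, _, hu⟩ := hT q A a
      exact eq_zero_of_phi φ u q (hq M).2 (hq _).1 a hu ha
  refine ⟨⟨fun h => ⟨fun M _ => h 0 M, fun q M _ => by have := h (q + 1) M; infer_instance⟩, ?_⟩,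
    ⟨fun h => ⟨h 0, fun q A α => ?_⟩, ?_⟩⟩
  · rintro ⟨h0, hs⟩ q
    simp only [isIso_iff_bijective'] at h0 ⊢
    induction q with
    | zero =>
      have hi : ∀ A, Function.Injective ((φ.app 0).app A) := fun A => by
        obtain ⟨M, i, _, hM⟩ := hE A
        exact zero_injective φ hT0 i (h0 M hM).1
      intro A
      obtain ⟨M, i, _, hM⟩ := hE A
      exact ⟨hi A, zero_surjective φ hT'0 i (h0 M hM).2 (hi _)⟩
    | succ q ih =>
      intro A
      obtain ⟨M, i, _, hM⟩ := hE A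
      exact ⟨hinj q ih A, succ_surjective φ i q ((AddCommGrpCat.epi_iff_surjective _).1 (hs q M hM))
        (ih _).2 (hinj q ih _)⟩
  · obtain ⟨a, rfl⟩ := ((isIso_iff_bijective' φ (q + 1) A).1 (h (q + 1) A)).2 α
    obtain ⟨M, u, hu, hu'⟩ := hT q A a
    exact ⟨M, u, hu, by rw [← phi_map, hu', map_zero]⟩
  · rintro ⟨h0, hT'⟩ q
    simp only [isIso_iff_bijective'] at h0 ⊢
    induction q with
    | zero => exact h0
    | succ q ih =>
      intro A
      refine ⟨hinj q ih A, fun b => ?_⟩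
      obtain ⟨M, u, _, hu⟩ := hT' q A b
      exact lift_vanishing φ u q (ih _).2 b hu

end Groth.Agent.DeltaIso24
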