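import Groth.Agent.Lib.DeltaIso24.Basic

/-!
# Morphisms of delta-functors commuting with filtered colimits
-/

universe w v u

open CategoryTheory CategoryTheory.Limits

namespace Groth.Agent.DeltaIso24

section Colim

variable {J : Type v} [SmallCategory J] [IsFiltered J] {G G' : J ⥤ AddCommGrpCat.{w}}
  {c : Cocone G} {c' : Cocone G'}

lemma injective_of_isColimit (hc : IsColimit c) (hc' : IsColimit c') (η : G ⟶ G') (f : c.pt ⟶ c'.pt)
    (hf : ∀ j, c.ι.app j ≫ f = η.app j ≫ c'.ι.app j)
    (hη : ∀ j, Function.Injective (η.app j)) : Function.Injective f := by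
  let U := AddCommGrpCat.uliftFunctor.{v, w}
  haveI : PreservesFilteredColimitsOfSize.{v, v} (forget AddCommGrpCat.{max w v}) :=
    preservesFilteredColimitsOfSize_shrink.{v, max w v, v, max w v} _
  have h := isColimitOfPreserves (U ⋙ forget _) hc
  have h' := isColimitOfPreserves (U ⋙ forget _) hc'
  suffices ∀ x, f x = 0 → x = 0 from
    fun a b e => sub_eq_zero.1 (this _ (by rw [map_sub, e, sub_self]))
  intro x hx
  obtain ⟨j, y, hy⟩ := Types.jointly_surjective _ h (ULift.up x)
  obtain ⟨y⟩ := y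
  have hy' : c.ι.app j y = x := congrArg ULift.down hy
  have e : ((U ⋙ forget _).mapCocone c').ι.app j (ULift.up (η.app j y)) =
      ((U ⋙ forget _).mapCocone c').ι.app j (ULift.up 0) := by
    refine ULift.ext _ _ ?_
    show c'.ι.app j (η.app j y) = c'.ι.app j 0
    rw [map_zero, ← hx, ← hy']
    exact (ConcreteCategory.congr_hom (hf j) y).symm
  obtain ⟨k, a, b, hk⟩ := (Types.FilteredColimit.isColimit_eq_iff _ h').1 e
  have hk' : G'.map a (η.app j y) = G'.map b 0 := congrArg ULift.down hk
  rw [map_zero, ← NatTrans.naturality_apply] at hk'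
  have h0 : G.map a y = 0 := hη k (hk'.trans (map_zero _).symm)
  rw [← hy', ← c.w a, ConcreteCategory.comp_apply, h0, map_zero]

lemma surjective_of_isColimit (hc' : IsColimit c') (η : G ⟶ G') (f : c.pt ⟶ c'.pt)
    (hf : ∀ j, c.ι.app j ≫ f = η.app j ≫ c'.ι.app j)
    (hη : ∀ j, Function.Surjective (η.app j)) : Function.Surjective f := by
  rw [← AddCommGrpCat.epi_iff_surjective]
  refine ⟨fun {Z} g h e => hc'.hom_ext fun j => ?_⟩
  have : Epi (η.app j) := (AddCommGrpCat.epi_iff_surjective _).2 (hη j)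
  rw [← cancel_epi (η.app j), ← Category.assoc, ← Category.assoc, ← hf, Category.assoc, Category.assoc, e]

end Colim

variable {C : Type u} [Category.{v} C] [Abelian C]
  {T T' : DeltaF.CohDeltaFunctor C AddCommGrpCat.{w} ℕ} (φ : T ⟶ T')
  [∀ n, PreservesFilteredColimitsOfSize.{v, v} (T.F n)] [∀ n, PreservesFilteredColimitsOfSize.{v, v} (T'.F n)]
  {D : ObjectProperty C}
  (hD : ∀ A : C, ∃ (J : Type v) (_ : SmallCategory J) (_ : IsFiltered J) (K : J ⥤ C) (c : Cocone K)
    (_ : IsColimit c), (∀ j, D (K.obj j)) ∧ Nonempty (c.pt ≅ A))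

lemma bijective_conj {q : ℕ} {A B : C} (e : A ≅ B) :
    (Function.Injective ((φ.app q).app A) → Function.Injective ((φ.app q).app B)) ∧
    (Function.Surjective ((φ.app q).app A) → Function.Surjective ((φ.app q).app B)) := by
  have he : (φ.app q).app B = (T.F q).map e.inv ≫ (φ.app q).app A ≫ (T'.F q).map e.hom := by
    rw [← NatTrans.naturality, ← Functor.map_comp_assoc, Iso.inv_hom_id, CategoryTheory.Functor.map_id, Category.id_comp]
  have b1 := ConcreteCategory.bijective_of_isIso ((T.F q).map e.inv)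
  have b2 := ConcreteCategory.bijective_of_isIso ((T'.F q).map e.hom)
  rw [he]
  exact ⟨fun h _ _ e => b1.1 (h (b2.1 e)), fun h => (b2.2.comp h).comp b1.2⟩

include hD

lemma injective_of_D (q : ℕ) (h : ∀ A, D A → Function.Injective ((φ.app q).app A)) (A : C) :
    Function.Injective ((φ.app q).app A) := by
  obtain ⟨J, _, _, K, c, hc, hK, ⟨e⟩⟩ := hD A
  refine (bijective_conj φ e).1 ?_
  exact injective_of_isColimit (isColimitOfPreserves (T.F q) hc) (isColimitOfPreserves (T'.F q) hc)
    (Functor.whiskerLeft K (φ.app q)) _ (fun j => (φ.app q).naturality _) fun j => h _ (hK j)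

lemma surjective_of_D (q : ℕ) (h : ∀ A, D A → Function.Surjective ((φ.app q).app A)) (A : C) :
    Function.Surjective ((φ.app q).app A) := by
  obtain ⟨J, _, _, K, c, hc, hK, ⟨e⟩⟩ := hD A
  refine (bijective_conj φ e).2 ?_
  exact surjective_of_isColimit (c := (T.F q).mapCocone c) (isColimitOfPreserves (T'.F q) hc)
    (Functor.whiskerLeft K (φ.app q)) _ (fun j => (φ.app q).naturality _) fun j => h _ (hK j)

theorem isIso_iff_of_filteredColimits (hT0 : T.ZeroMono) (hT'0 : T'.ZeroMono) (E : ObjectProperty C)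
    (hE : ∀ A : C, D A → ∃ (M : C) (i : A ⟶ M), Mono i ∧ E M) :
    (∀ (q : ℕ) (A : C), IsIso ((φ.app q).app A)) ↔
      ∀ (q : ℕ) (M : C), E M → IsIso ((φ.app q).app M) := by
  refine ⟨fun h q M _ => h q M, fun h q => ?_⟩
  simp only [isIso_iff_bijective'] at h ⊢
  induction q with
  | zero =>
    have hi := injective_of_D φ hD 0 fun A hA => by
      obtain ⟨M, i, _, hM⟩ := hE A hA
      exact zero_injective φ hT0 i (h 0 M hM).1
    have hs := surjective_of_D φ hD 0 fun A hA => by
      obtain ⟨M, i, _, hM⟩ := hE A hA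
      exact zero_surjective φ hT'0 i (h 0 M hM).2 (hi _)
    exact fun A => ⟨hi A, hs A⟩
  | succ q ih =>
    have hi := injective_of_D φ hD (q + 1) fun A hA => inj_of_eq_zero φ (q + 1) A fun a ha => by
      obtain ⟨M, i, _, hM⟩ := hE A hA
      refine eq_zero_of_phi φ i q (ih M).2 (ih _).1 a ?_ ha
      refine (h (q + 1) M hM).1 ?_
      rw [phi_map, ha, map_zero, map_zero]
    have hs := surjective_of_D φ hD (q + 1) fun A hA => by
      obtain ⟨M, i, _, hM⟩ := hE A hA
      exact succ_surjective φ i q (h (q + 1) M hM).2 (ih _).2 (hi _)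
    exact fun A => ⟨hi A, hs A⟩

end Groth.Agent.DeltaIso24
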